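import Cfsg.Agent.Lib.Co3Out.Fin

/-!
The stabiliser of a minimal vector and the 4600 minimal vectors near it.
-/

set_option autoImplicit false

namespace Cfsg.Agent.Lib.Co2Out

open Cfsg Finset
open Cfsg.Agent.Lib.Golay Cfsg.Agent.Lib
open scoped Pointwise

abbrev vv : Vec := rO pa
abbrev xa : Vec := sg pa (-4) + sg pb 4
abbrev xb : Vec := rO pb

theorem vv_mem : vv ∈ leechLattice := rO_mem pa
theorem xb_mem : xb ∈ leechLattice := rO_mem pb
theorem xa_mem : xa ∈ leechLattice := sg_add_mem pa_ne_pb (Or.inr rfl) (Or.inl rfl)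

/-- the standard group -/
abbrev GC : Subgroup Co0 := MulAction.stabilizer Co0 (⟨vv, vv_mem⟩ : leechLattice)

theorem gc_fix (g : GC) : app (g : Co0) vv = vv := smul_eq_iff_app.1 g.2
theorem mem_gc {g : Co0} (h : app g vv = vv) : g ∈ GC := smul_eq_iff_app.2 h

theorem xa_add : xa + xb = vv := by decide +kernel
theorem xb_eq : xb = vv - xa := by decide +kernel
theorem xa_v0 : v0 = -xa := by decide +kernel

theorem xb_fixU : prm sU xb = xb := by
  rw [prm_rO, sU_pb]

theorem xa_fixU : prm sU xa = xa := by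
  rw [prm_add, prm_sg, prm_sg, sU_pa, sU_pb]

/-- the fixed vectors of the element of order 11 -/
theorem fixOm {x : Vec} (hn : sqNorm x = 32) (hd : dotInt vv x = 16) (h : prm sU x = x) : x = xa ∨ x = xb := by
  have hf := fix11 h
  have hs : ∑ p, x p = x pa + x pb + 11 * x (pt 1) + 11 * x (pt 5) := by
    nth_rw 1 [hf]; exact sum_F4 _ _ _ _
  rw [dot_rO, hs] at hd
  rw [hf, norm_F4] at hn
  have key : ∀ a b c d : ℤ, a + b + 11 * c + 11 * d - 4 * a = 16 → a * a + b * b + 11 * (c * c) + 11 * (d * d) = 32 →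
      (a = -4 ∧ b = 4 ∧ c = 0 ∧ d = 0) ∨ (a = 1 ∧ b = -3 ∧ c = 1 ∧ d = 1) := by
    intro a b c d h1 h2
    have hc : -1 ≤ c ∧ c ≤ 1 := by constructor <;> nlinarith
    have hd : -1 ≤ d ∧ d ≤ 1 := by constructor <;> nlinarith
    have ha : -5 ≤ a ∧ a ≤ 5 := by constructor <;> nlinarith
    have hb : b = 16 + 3 * a - 11 * c - 11 * d := by linarith
    subst hb
    obtain ⟨hc1, hc2⟩ := hc
    obtain ⟨hd1, hd2⟩ := hd
    obtain ⟨ha1, ha2⟩ := ha
    interval_cases c <;> interval_cases d <;> interval_cases a <;> omega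
  rcases key _ _ _ _ hd hn with ⟨e1, e2, e3, e4⟩ | ⟨e1, e2, e3, e4⟩
  · left
    rw [hf, e1, e2, e3, e4]
    ext p
    revert p
    decide +kernel
  · right
    rw [hf, e1, e2, e3, e4]
    ext p
    revert p
    decide +kernel

theorem x0_fix' {g : Co0} (h : g * uEl = uEl * g) (h1 : app g vv = vv) (h2 : app g v0 = v0) : app g x0 = x0 := by
  have hf := fix11 (commU_fix h x0_mem x0_fixU)
  have hn : sqNorm (app g x0) = 32 := by rw [app_norm g x0_mem, norm_x0]
  have hd1 : dotInt v0 (app g x0) = 0 := by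
    have := app_dot g v0_mem x0_mem
    rw [h2, dot_v0_x0] at this; exact this
  have hd2 : dotInt vv (app g x0) = -8 := by
    have := app_dot g vv_mem x0_mem
    rw [h1] at this
    rw [this]; decide +kernel
  rw [dot_v0] at hd1
  rw [dot_rO] at hd2
  generalize app g x0 = y at *
  rw [hf, norm_F4] at hn
  have hs : ∑ p, y p = y pa + y pb + 11 * y (pt 1) + 11 * y (pt 5) := by
    nth_rw 1 [hf]; exact sum_F4 _ _ _ _
  rw [hs] at hd2
  have hb : y pb = y pa := by omega
  rw [hb] at hn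
  obtain ⟨ha, hc, hd⟩ := int_cases (a := y pa) (c := y (pt 1)) (d := y (pt 5)) (by linarith)
  rw [hf, hb, hc, hd]
  rw [hc, hd, hb] at hd2
  have ha' : y pa = 4 := by omega
  rw [ha']
  ext p
  revert p
  decide +kernel

/-- the centraliser of the element of order 11 in the stabiliser of a triangle -/
theorem cent_xa {g : Co0} (h : g * uEl = uEl * g) (h1 : app g vv = vv) (h2 : app g xa = xa) : ∃ j : ℕ, g = uEl ^ j := by
  have h3 : app g v0 = v0 := by rw [xa_v0, app_neg g xa_mem, h2]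
  exact comm_uEl h h3 (x0_fix' h h1 h3) vv_mem h1 (by decide +kernel) (by intro σ ha _; rw [prm_rO, ha])

/-- the 4600 vectors -/
def Om : Set Vec := {x | x ∈ leechLattice ∧ sqNorm x = 32 ∧ dotInt vv x = 16}

theorem om_app (g : GC) {x : Vec} (h : x ∈ Om) : app (g : Co0) x ∈ Om := by
  refine ⟨app_mem _ h.1, by rw [app_norm _ h.1, h.2.1], ?_⟩
  have := app_dot (g : Co0) vv_mem h.1
  rw [gc_fix, h.2.2] at this; exact this

theorem om_xa : xa ∈ Om := ⟨xa_mem, by decide +kernel, by decide +kernel⟩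

theorem norm_vv : sqNorm vv = 32 := by decide +kernel

theorem card_Om : Om.ncard = 4600 := by
  obtain ⟨g, hg⟩ := toV0 (neg_mem vv_mem) (by rw [← dotInt_self, dotInt_neg_left, dotInt_comm, dotInt_neg_left, dotInt_self, norm_vv]; norm_num)
  have h := (ncard_dot1 g (neg_mem vv_mem) hg (-16) 32).trans c_v0_16
  rw [← h]
  congr 1
  ext x
  show _ ∧ _ ∧ _ ↔ _ ∧ _ ∧ _
  rw [dotInt_neg_left, neg_inj]

/-- the embedding of the stabiliser of a point -/
noncomputable def kapG : m23 →* GC where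
  toFun σ := ⟨kap ⟨σ, σ.2.1⟩, mem_gc (by
    rw [kap_app _ vv_mem]
    show prm (σ : Equiv.Perm GolayPt) vv = vv
    have : (σ : Equiv.Perm GolayPt) pa = pa := σ.2.2
    rw [prm_rO, this])⟩
  map_one' := by
    apply Subtype.ext
    exact map_one kap
  map_mul' a b := by
    apply Subtype.ext
    exact map_mul kap ⟨a, a.2.1⟩ ⟨b, b.2.1⟩

theorem kapG_app (σ : m23) {x : Vec} (hx : x ∈ leechLattice) : app ((kapG σ : GC) : Co0) x = prm σ x :=
  kap_app _ hx

theorem kapG_inj : Function.Injective kapG := by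
  intro a b h
  apply Subtype.ext
  apply Equiv.ext
  intro p
  have h1 : app ((kapG a : GC) : Co0) (sg p 8) = app ((kapG b : GC) : Co0) (sg p 8) := by rw [h]
  rw [kapG_app _ (sg8_mem p), kapG_app _ (sg8_mem p), prm_sg, prm_sg] at h1
  exact (sg_inj (by norm_num) h1).1

end Cfsg.Agent.Lib.Co2Out
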