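import Cfsg.Agent.Lib.Co2Out.Swap
import Cfsg.Agent.Lib.Co3Out.Count
import Cfsg.Agent.Lib.HSOut.Act

/-!
Such a subgroup is the whole group.
-/

set_option autoImplicit false

namespace Cfsg.Agent.Lib.Co2Out

open Cfsg Finset
open Cfsg.Agent.Lib.Golay Cfsg.Agent.Lib
open scoped Pointwise

/-- the points -/
def xj (j : GolayPt) : Vec := sg pa (-4) + sg j 4

theorem xj_mem {j : GolayPt} (hj : j ≠ pa) : xj j ∈ leechLattice :=
  sg_add_mem (Ne.symm hj) (Or.inr rfl) (Or.inl rfl)

theorem xj_inj {j k : GolayPt} (hj : j ≠ pa) (h : xj j = xj k) : j = k := by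
  have h1 := congrFun h j
  unfold xj sg at h1
  simp only [Pi.add_apply, if_pos rfl] at h1
  rw [if_neg hj] at h1
  by_contra hne
  rw [if_neg hne] at h1
  norm_num at h1

theorem sum_xj : ∑ j ∈ univ.erase pa, xj j = (4 : ℤ) • vv - (10 : ℤ) • sg pa 8 := by decide +kernel

/-- the swapping element does not preserve the set of the 46 special vectors -/
theorem no_frame {y : GC} (h : ∀ j, j ≠ pa → ∃ k, k ≠ pa ∧ app (y : Co0) (xj j) = vv - xj k) : False := by
  choose! σ hσ1 hσ2 using h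
  have hinj : Set.InjOn σ (univ.erase pa : Finset GolayPt) := by
    intro i hi j hj hij
    rw [mem_coe, mem_erase] at hi hj
    have h1 : app (y : Co0) (xj i) = app (y : Co0) (xj j) := by
      rw [hσ2 i hi.1, hσ2 j hj.1, hij]
    exact xj_inj hi.1 (app_injective _ h1)
  have hmaps : ∀ i ∈ (univ.erase pa : Finset GolayPt), σ i ∈ (univ.erase pa : Finset GolayPt) := by
    intro i hi
    rw [mem_erase] at hi ⊢
    exact ⟨hσ1 i hi.1, mem_univ _⟩
  have hsurj : Set.SurjOn σ (univ.erase pa : Finset GolayPt) (univ.erase pa : Finset GolayPt) :=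
    Finset.surjOn_of_injOn_of_card_le σ hmaps hinj le_rfl
  have hs1 : ∑ j ∈ univ.erase pa, app (y : Co0) (xj j) = ∑ k ∈ univ.erase pa, (vv - xj k) :=
    Finset.sum_nbij σ hmaps hinj hsurj (fun j hj => hσ2 j (mem_erase.1 hj).1)
  have hs2 : app (y : Co0) (∑ j ∈ univ.erase pa, xj j) = ∑ j ∈ univ.erase pa, app (y : Co0) (xj j) :=
    app_sum _ _ _ (fun j hj => xj_mem (mem_erase.1 hj).1)
  have hcard : (univ.erase pa : Finset GolayPt).card = 23 := by
    rw [card_erase_of_mem (mem_univ _), card_univ, card_golayPt]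
  rw [hs1, sum_xj, sum_sub_distrib, sum_xj, sum_const, hcard, app_sub _ (zsmul_mem vv_mem _) (zsmul_mem (sg8_mem pa) _),
    app_zsmul _ vv_mem, app_zsmul _ (sg8_mem pa), gc_fix] at hs2
  have h1 := congrFun hs2 pa
  simp only [Pi.sub_apply, Pi.smul_apply, smul_eq_mul] at h1
  have e1 : vv pa = -3 := by decide
  have e2 : sg pa 8 pa = 8 := by decide
  rw [e1, e2] at h1
  generalize app (y : Co0) (sg pa 8) pa = t at h1
  norm_num at h1
  omega

theorem trans_xj {F : Subgroup Co0} (hM : ∀ σ : m23, ((kapG σ : GC) : Co0) ∈ F) {j k : GolayPt} (hj : j ≠ pa) (hk : k ≠ pa) :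
    ∃ f ∈ F, app f vv = vv ∧ app f (xj j) = xj k := by
  have hex : ∃ c : GolayPt, c ≠ pa ∧ c ≠ j ∧ ∃ c' : GolayPt, c' ≠ pa ∧ c' ≠ k := by
    obtain ⟨c, hc⟩ := Finset.exists_mem_notMem_of_card_lt_card (s := ({pa, j} : Finset GolayPt)) (t := univ)
      (by rw [card_univ, card_golayPt]; exact lt_of_le_of_lt card_le_two (by norm_num))
    obtain ⟨c', hc'⟩ := Finset.exists_mem_notMem_of_card_lt_card (s := ({pa, k} : Finset GolayPt)) (t := univ)
      (by rw [card_univ, card_golayPt]; exact lt_of_le_of_lt card_le_two (by norm_num))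
    simp only [mem_insert, mem_singleton, not_or] at hc hc'
    exact ⟨c, hc.2.1, hc.2.2, c', hc'.2.1, hc'.2.2⟩
  obtain ⟨c, c1, c2, c', c3, c4⟩ := hex
  obtain ⟨σ, hσ, f1, f2, -⟩ := exists_map_three (a := pa) (b := j) (c := c) (a' := pa) (b' := k) (c' := c')
    (by simp only [List.nodup_cons, List.mem_cons, List.not_mem_nil, or_false, not_or, List.nodup_nil, and_true,
            not_false_eq_true]
        exact ⟨⟨hj.symm, c1.symm⟩, c2.symm⟩)
    (by simp only [List.nodup_cons, List.mem_cons, List.not_mem_nil, or_false, not_or, List.nodup_nil, and_true,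
            not_false_eq_true]
        exact ⟨⟨hk.symm, c3.symm⟩, c4.symm⟩)
  refine ⟨_, hM ⟨σ, hσ, f1⟩, gc_fix _, ?_⟩
  rw [kapG_app _ (xj_mem hj)]
  unfold xj
  rw [prm_add, prm_sg, prm_sg]
  show sg (σ pa) (-4) + sg (σ j) 4 = _
  rw [f1, f2]

theorem xa_eq : xa = xj pb := rfl

theorem dot_xa_xj {j : GolayPt} (hj : j ≠ pa) : dotInt xa (xj j) = 16 ∨ dotInt xa (xj j) = 32 := by
  unfold xj
  rw [dotInt_add_left, dot_sg, dot_sg]
  unfold sg
  simp only [Pi.add_apply]
  rw [if_pos trivial, if_neg (Ne.symm hj), if_neg (Ne.symm pa_ne_pb)]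
  split_ifs <;> norm_num

theorem dot_vv_xj {j : GolayPt} (hj : j ≠ pa) : dotInt vv (xj j) = 16 := by
  rw [dotInt_comm]
  unfold xj
  rw [dotInt_add_left, dot_sg, dot_sg]
  unfold vv rO
  rw [if_pos rfl, if_neg hj]; norm_num

/-- orbits modulo a prime -/
theorem orbit_mod {p : ℕ} [Fact p.Prime] {F : Subgroup Co0} (x : leechLattice) {u : Co0} (hu : u ∈ F)
    (hup : u ^ p = 1) : {w : leechLattice | w ∈ MulAction.orbit F x ∧ u • w = w}.ncard ≡ (MulAction.orbit F x).ncard [MOD p] := by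
  have := finCo0
  have hfin : Finite (MulAction.orbit F x) := (Set.finite_range (fun g : F => g • x)).to_subtype
  set s : Equiv.Perm (MulAction.orbit F x) := MulAction.toPerm (⟨u, hu⟩ : F) with hs
  have hsp : s ^ p = 1 := by
    have h1 : (MulAction.toPermHom F (MulAction.orbit F x)) ⟨u, hu⟩ = s := rfl
    rw [← h1, ← map_pow]
    have : (⟨u, hu⟩ : F) ^ p = 1 := Subtype.ext hup
    rw [this, map_one]
  have h := HSOut.fix_mod_gen hsp Set.univ (fun _ _ => Set.mem_univ _)
  rw [Set.ncard_univ, Nat.card_coe_set_eq] at h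
  have e : {w : leechLattice | w ∈ MulAction.orbit F x ∧ u • w = w} =
      Subtype.val '' {y | y ∈ (Set.univ : Set (MulAction.orbit F x)) ∧ s y = y} := by
    ext w
    constructor
    · rintro ⟨h1, h2⟩
      exact ⟨⟨w, h1⟩, ⟨Set.mem_univ _, Subtype.ext h2⟩, rfl⟩
    · rintro ⟨w, ⟨-, h2⟩, rfl⟩
      exact ⟨w.2, congrArg Subtype.val h2⟩
  rw [e, Set.ncard_image_of_injective _ Subtype.val_injective]
  exact h

theorem z_fix {y : GC} (hfix : ∀ σ : m22, prm (σ : Equiv.Perm GolayPt) (app (y : Co0) (sg pa 8)) = app (y : Co0) (sg pa 8))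
    (hyx : app (y : Co0) xa = xb) : False := by
  have hn : sqNorm (app (y : Co0) (sg pa 8)) = 64 := by
    rw [app_norm _ (sg8_mem pa)]; decide +kernel
  have hd1 : dotInt vv (app (y : Co0) (sg pa 8)) = -24 := by
    have := app_dot (y : Co0) vv_mem (sg8_mem pa)
    rw [gc_fix] at this
    rw [this]; decide +kernel
  have hd2 : dotInt xb (app (y : Co0) (sg pa 8)) = -32 := by
    have := app_dot (y : Co0) xa_mem (sg8_mem pa)
    rw [hyx] at this
    rw [this]; decide +kernel
  have hU : prm sU (app (y : Co0) (sg pa 8)) = app (y : Co0) (sg pa 8) := hfix ⟨pm cU, by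
    refine ⟨⟨mem_M24_U, ?_⟩, ?_⟩
    · exact sU_pa
    · exact sU_pb⟩
  have h15 : ∃ σ ∈ M24, σ pa = pa ∧ σ pb = pb ∧ σ (pt 1) = pt 5 :=
    exists_map_three (by decide) (by decide)
  obtain ⟨σ, hσ, f1, f2, f3⟩ := h15
  have hs : prm σ (app (y : Co0) (sg pa 8)) = app (y : Co0) (sg pa 8) := hfix ⟨σ, ⟨hσ, f1⟩, f2⟩
  generalize app (y : Co0) (sg pa 8) = z at *
  have e15 : z (pt 5) = z (pt 1) := by
    have := congrFun hs (pt 5)
    have e : prm σ z (pt 5) = z (pt 1) := by
      show z (σ.symm (pt 5)) = z (pt 1)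
      rw [← f3, Equiv.symm_apply_apply]
    rw [← this, e]
  have hf := fix11 hU
  have hsum : ∑ p, z p = z pa + z pb + 11 * z (pt 1) + 11 * z (pt 5) := by
    nth_rw 1 [hf]; exact sum_F4 _ _ _ _
  rw [dot_rO, hsum, e15] at hd1
  rw [dot_rO, hsum, e15] at hd2
  rw [hf, norm_F4, e15] at hn
  have key : ∀ a b c : ℤ, a * a + b * b + 11 * (c * c) + 11 * (c * c) = 64 → a + b + 11 * c + 11 * c - 4 * a = -24 →
      a + b + 11 * c + 11 * c - 4 * b = -32 → False := by
    intro a b c h1 h2 h3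
    have hc : -1 ≤ c ∧ c ≤ 1 := by constructor <;> nlinarith
    obtain ⟨hc1, hc2⟩ := hc
    have hb : b = a + 2 := by omega
    subst hb
    obtain rfl | rfl | rfl : c = -1 ∨ c = 0 ∨ c = 1 := by omega
    · have ha : a = 2 := by omega
      subst ha
      norm_num at h1
    · have ha : a = 13 := by omega
      subst ha
      norm_num at h1
    · have ha : a = 24 := by omega
      subst ha
      norm_num at h1
  exact key _ _ _ hn hd1 hd2

/-- the stabiliser of a triangle -/
abbrev G1 : Subgroup Co0 := GC ⊓ MulAction.stabilizer Co0 (⟨xa, xa_mem⟩ : leechLattice)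

theorem card_G1 : Nat.card G1 = 9196830720 := by
  have h := card_mul_inf_stab GC (⟨xa, xa_mem⟩ : leechLattice)
  have h1 : MulAction.orbit GC (⟨xa, xa_mem⟩ : leechLattice) = {w : leechLattice | sqNorm (w : Vec) = 32 ∧ dotInt vv (w : Vec) = 16} := by
    ext w
    constructor
    · rintro ⟨f, rfl⟩
      have e : (((f • (⟨xa, xa_mem⟩ : leechLattice) : leechLattice)) : Vec) = app (f : Co0) xa := (app_coe (f : Co0) _).symm
      show sqNorm (((f • (⟨xa, xa_mem⟩ : leechLattice) : leechLattice)) : Vec) = 32 ∧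
        dotInt vv (((f • (⟨xa, xa_mem⟩ : leechLattice) : leechLattice)) : Vec) = 16
      rw [e]
      exact (om_app f om_xa).2
    · rintro ⟨w1, w2⟩
      have hnv : sqNorm (-vv) = 32 := by decide +kernel
      obtain ⟨g, hg⟩ := (T16 xa_mem (neg_mem vv_mem) norm_xa hnv (by decide +kernel)).trans
        (T16 w.2 (neg_mem vv_mem) w1 hnv (by rw [dotInt_comm, dotInt_neg_left, w2])).symm
      simp only [List.map_cons, List.map_nil, List.cons.injEq, and_true] at hg
      have h := hg.2
      rw [app_neg g vv_mem, neg_inj] at h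
      refine ⟨⟨g, mem_gc h⟩, Subtype.ext ?_⟩
      show (((g • (⟨xa, xa_mem⟩ : leechLattice) : leechLattice)) : Vec) = w
      rw [← app_coe]; exact hg.1
  rw [h1, ncard_sub _ (fun w => sqNorm w = 32 ∧ dotInt vv w = 16) (fun x => Iff.rfl), card_GC] at h
  have h2 := card_Om
  unfold Om at h2
  rw [h2] at h
  have h' : 42305421312000 = 4600 * Nat.card G1 := h
  omega

theorem key_num : ∀ i ∈ Nat.divisors 20736, ∀ m ∈ Finset.range 201, (m % 11 = 2 ∧ (4147200 % (i * m) = 0) ∧
    ((40320 * i) % 11 = 1 ∨ (40320 * i) % 11 = 5) ∧ ((443520 * (i * m)) % 23 = 1 ∨ (443520 * (i * m)) % 23 = 11)) →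
    (i = 1 ∨ m = 2 ∨ (m = 200 ∧ i = 20736)) := by decide +kernel

theorem gen {F : Subgroup Co0} (hF : F ≤ GC) (hM : ∀ σ : m23, ((kapG σ : GC) : Co0) ∈ F) {y : Co0} (hy : y ∈ F)
    (hyx : app y xa = xb) : F = GC := by
  have f23 : Fact (Nat.Prime 23) := ⟨by norm_num⟩
  have f11 : Fact (Nat.Prime 11) := ⟨by norm_num⟩
  have := finGC
  have := finCo0
  have hyG := hF hy
  have hyb : app y xb = xa := swap_rO (g := ⟨y, hyG⟩) hyx
  set xaL : leechLattice := ⟨xa, xa_mem⟩ with hxaL
  set F0 : Subgroup Co0 := F ⊓ MulAction.stabilizer Co0 xaL with hF0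
  have hcF : Nat.card F = (MulAction.orbit F xaL).ncard * Nat.card F0 := card_mul_inf_stab F xaL
  have hTF : tEl ∈ F := hM ⟨pm cT, mem_m23_T⟩
  have hUF : uEl ∈ F := hM ⟨pm cU, memU⟩
  have hT1 : tEl ^ 23 = 1 := by
    have h1 := pow_orderOf_eq_one T
    rw [ord_T] at h1
    exact congrArg Subtype.val h1
  have hU1 : uEl ^ 11 = 1 := by
    have h1 := pow_orderOf_eq_one U
    rw [ord_U] at h1
    exact congrArg Subtype.val h1
  -- the orbit lies among the 4600 vectors
  have horb : ∀ w ∈ MulAction.orbit F xaL, (w : Vec) ∈ Om := by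
    rintro _ ⟨f, rfl⟩
    have e : (((f • xaL : leechLattice)) : Vec) = app (f : Co0) xa := (app_coe (f : Co0) _).symm
    show (((f • xaL : leechLattice)) : Vec) ∈ Om
    rw [e]
    exact om_app ⟨f, hF f.2⟩ om_xa
  have hOmL : {w : leechLattice | sqNorm (w : Vec) = 32 ∧ dotInt vv (w : Vec) = 16}.ncard = 4600 := by
    rw [ncard_sub _ (fun w => sqNorm w = 32 ∧ dotInt vv w = 16) (fun x => Iff.rfl)]
    exact card_Om
  have hle : (MulAction.orbit F xaL).ncard ≤ 4600 := by
    rw [← hOmL]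
    exact Set.ncard_le_ncard (fun w hw => (horb w hw).2) (Set.finite_of_ncard_ne_zero (by rw [hOmL]; norm_num))
  have hinv : ∀ (f : Co0) (w : leechLattice), f ∈ F → w ∈ MulAction.orbit F xaL → f • w ∈ MulAction.orbit F xaL := by
    rintro f _ hf ⟨f', rfl⟩
    exact ⟨⟨f, hf⟩ * f', mul_smul _ _ _⟩
  set xbL : leechLattice := ⟨xb, xb_mem⟩ with hxbL
  have hya : y • xaL = xbL := smul_eq_iff_app.2 hyx
  have hyaO : xaL ∈ MulAction.orbit F xaL := MulAction.mem_orbit_self _
  have hybO : xbL ∈ MulAction.orbit F xaL := by rw [← hya]; exact hinv y _ hy hyaO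
  have hm23 : (MulAction.orbit F xaL).ncard % 23 = 0 := by
    have h1 := orbit_mod xaL hTF hT1
    have h2 : {w : leechLattice | w ∈ MulAction.orbit F xaL ∧ tEl • w = w} = ∅ := by
      rw [Set.eq_empty_iff_forall_notMem]
      rintro w ⟨h3, h4⟩
      have h5 := horb w h3
      have h6 : app tEl (w : Vec) = w := smul_eq_iff_app.1 h4
      rw [tEl_app w.2] at h6
      rcases fixed32 w.2 h5.2.1 h6 with h7 | h7
      · have h8 := h5.2.2
        rw [h7, dotInt_self, norm_vv] at h8
        norm_num at h8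
      · have h8 := h5.2.2
        rw [h7, dotInt_comm, dotInt_neg_left, dotInt_self, norm_vv] at h8
        norm_num at h8
    rw [h2, Set.ncard_empty] at h1
    have h3 : 0 % 23 = (MulAction.orbit F xaL).ncard % 23 := h1
    omega
  have hm11 : (MulAction.orbit F xaL).ncard % 11 = 2 := by
    have h1 := orbit_mod xaL hUF hU1
    have h2 : {w : leechLattice | w ∈ MulAction.orbit F xaL ∧ uEl • w = w} = {xaL, xbL} := by
      ext w
      constructor
      · rintro ⟨h3, h4⟩
        have h5 := horb w h3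
        have h6 : app uEl (w : Vec) = w := smul_eq_iff_app.1 h4
        rw [uEl_app w.2] at h6
        rcases fixOm h5.2.1 h5.2.2 h6 with h7 | h7
        · left; exact Subtype.ext h7
        · right; exact Subtype.ext h7
      · rintro (rfl | rfl)
        · exact ⟨hyaO, smul_eq_iff_app.2 U_xa⟩
        · refine ⟨hybO, smul_eq_iff_app.2 ?_⟩
          show app uEl xb = xb
          rw [uEl_app xb_mem, xb_fixU]
    rw [h2, Set.ncard_pair (fun h => xa_ne (congrArg Subtype.val h))] at h1
    have h3 : 2 % 11 = (MulAction.orbit F xaL).ncard % 11 := h1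
    omega
  -- the image of the two-point stabiliser
  set κ : m22 →* Co0 := GC.subtype.comp (kapG.comp (Subgroup.inclusion (show m22 ≤ m23 from inf_le_left))) with hκ
  have hκi : Function.Injective κ := by
    intro a b h
    have h1 := kapG_inj (Subtype.ext h)
    exact Subgroup.inclusion_injective _ h1
  have hκa : ∀ (σ : m22) {x : Vec}, x ∈ leechLattice → app (κ σ) x = prm (σ : Equiv.Perm GolayPt) x := fun σ x hx => kapG_app _ hx
  have hcM : Nat.card κ.range = 443520 := by
    rw [← Nat.card_congr (MonoidHom.ofInjective hκi).toEquiv, card_m22]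
  have hMle : κ.range ≤ F0 := by
    rintro _ ⟨σ, rfl⟩
    refine ⟨hM _, smul_eq_iff_app.2 ?_⟩
    show app (κ σ) xa = xa
    have ha : (σ : Equiv.Perm GolayPt) pa = pa := σ.2.1.2
    have hb : (σ : Equiv.Perm GolayPt) pb = pb := σ.2.2
    rw [hκa σ xa_mem, prm_add, prm_sg, prm_sg, ha, hb]
  obtain ⟨i, hi⟩ := Subgroup.card_dvd_of_le hMle
  rw [hcM] at hi
  have hdv : Nat.card F ∣ 42305421312000 := by rw [← card_GC]; exact Subgroup.card_dvd_of_le hF
  have hF0G : F0 ≤ G1 := fun g hg => ⟨hF hg.1, hg.2⟩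
  have hi2 : i ∣ 20736 := by
    have h1 : Nat.card F0 ∣ 9196830720 := by rw [← card_G1]; exact Subgroup.card_dvd_of_le hF0G
    rw [hi] at h1
    exact Nat.dvd_of_mul_dvd_mul_left (by norm_num : 0 < 443520) h1
  obtain ⟨m, hm⟩ : ∃ m, (MulAction.orbit F xaL).ncard = 23 * m := ⟨(MulAction.orbit F xaL).ncard / 23, by omega⟩
  rw [hm] at hcF hm11 hle
  have hF2 : Nat.card F = 10200960 * (i * m) := by rw [hcF, hi]; ring
  have him : i * m ∣ 4147200 := by
    rw [hF2] at hdv
    exact Nat.dvd_of_mul_dvd_mul_left (by norm_num : 0 < 10200960) hdv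
  -- Sylow 23
  have c23 : (443520 * (i * m)) % 23 = 1 ∨ (443520 * (i * m)) % 23 = 11 := by
    have hcF' : Nat.card (F.subgroupOf GC) = Nat.card F := Nat.card_congr (Subgroup.subgroupOfEquivOfLe hF).toEquiv
    obtain ⟨n, d, m', e, e1, e2, e3, e4, e5, e6⟩ := Co3Out.count_gen (p := 23) ord_T (by rw [card_GC]; norm_num) cent_TG
      (F.subgroupOf GC) (by rw [hcF', hF2]; exact ⟨443520 * (i * m), by ring⟩)
    rw [hcF', hF2] at e4
    rw [card_GC] at e1
    have h6 : d ≤ 22 := Nat.le_of_dvd (by norm_num) e3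
    have h7 : d = 1 ∨ d = 2 ∨ d = 11 ∨ d = 22 := by
      interval_cases d <;> first | omega | (exfalso; revert e3; decide)
    have h8 : d = 11 := by
      rcases h7 with rfl | rfl | rfl | rfl
      · exfalso; omega
      · exfalso; omega
      · rfl
      · exfalso; omega
    subst h8
    have h9 : e = 1 ∨ e = 11 := (Nat.dvd_prime (by norm_num)).1 e6
    generalize i * m = k at *
    rcases h9 with rfl | rfl
    · left; omega
    · right; omega
  -- Sylow 11
  have c11 : (40320 * i) % 11 = 1 ∨ (40320 * i) % 11 = 5 := by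
    have hcF' : Nat.card (F0.subgroupOf G1) = Nat.card F0 := Nat.card_congr (Subgroup.subgroupOfEquivOfLe hF0G).toEquiv
    have hU1m : uEl ∈ G1 := ⟨hF hUF, smul_eq_iff_app.2 U_xa⟩
    obtain ⟨n, d, m', e, e1, e2, e3, e4, e5, e6⟩ := Co3Out.count_gen (p := 11) (G := G1) (T := ⟨uEl, hU1m⟩)
      (by rw [Subgroup.orderOf_mk, ord_uEl]) (by rw [card_G1]; norm_num) (by
        intro g hg
        have h1 : (g : Co0) * uEl = uEl * (g : Co0) := congrArg Subtype.val hg
        obtain ⟨j, hj⟩ := cent_xa h1 (gc_fix ⟨g, g.2.1⟩) (smul_eq_iff_app.1 g.2.2)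
        refine ⟨j, Subtype.ext ?_⟩
        show (((⟨uEl, hU1m⟩ : G1) ^ (j : ℤ) : G1) : Co0) = g
        rw [zpow_natCast]; exact hj.symm)
      (F0.subgroupOf G1) (by rw [hcF', hi]; exact ⟨40320 * i, by ring⟩)
    rw [hcF', hi] at e4
    rw [card_G1] at e1
    have h6 : d ≤ 10 := Nat.le_of_dvd (by norm_num) e3
    have h7 : d = 1 ∨ d = 2 ∨ d = 5 ∨ d = 10 := by
      interval_cases d <;> first | omega | (exfalso; revert e3; decide)
    have h8 : d = 5 := by
      rcases h7 with rfl | rfl | rfl | rfl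
      · exfalso; omega
      · exfalso; omega
      · rfl
      · exfalso; omega
    subst h8
    have h9 : e = 1 ∨ e = 5 := (Nat.dvd_prime (by norm_num)).1 e6
    rcases h9 with rfl | rfl
    · left; omega
    · right; omega
  have hmain := key_num i (Nat.mem_divisors.2 ⟨hi2, by norm_num⟩) m (Finset.mem_range.2 (by omega))
    ⟨by omega, Nat.mod_eq_zero_of_dvd him, c11, c23⟩
  rcases hmain with rfl | rfl | ⟨rfl, rfl⟩
  · exfalso
    have hFM : κ.range = F0 := by
      have : Finite F0 := inferInstance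
      apply Subgroup.eq_of_le_of_card_ge hMle
      rw [hcM, hi]
    refine z_fix (y := ⟨y, hyG⟩) ?_ hyx
    intro σ
    show prm (σ : Equiv.Perm GolayPt) (app y (sg pa 8)) = app y (sg pa 8)
    have h1 : y⁻¹ * κ σ * y ∈ F0 := by
      have hσF : κ σ ∈ F0 := hMle ⟨σ, rfl⟩
      refine ⟨F.mul_mem (F.mul_mem (F.inv_mem hy) hσF.1) hy, smul_eq_iff_app.2 ?_⟩
      show app (y⁻¹ * κ σ * y) xa = xa
      rw [app_mul, app_mul, hyx]
      have h2 : app (κ σ) xb = xb := by
        rw [hκa σ xb_mem, prm_rO]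
        have : (σ : Equiv.Perm GolayPt) pb = pb := σ.2.2
        rw [this]
      rw [h2, ← app_eq_iff]; exact hyx
    rw [← hFM] at h1
    obtain ⟨τ, hτ⟩ := h1
    have h3 : κ σ * y = y * κ τ := by rw [hτ]; group
    rw [← hκa σ (app_mem _ (sg8_mem pa)), ← app_mul, h3, app_mul, hκa τ (sg8_mem pa), prm_sg]
    have : (τ : Equiv.Perm GolayPt) pa = pa := τ.2.1.2
    rw [this]
  · exfalso
    -- the orbit is the set of the 46 special vectors
    set S : Finset Vec := (univ.erase pa).image xj ∪ (univ.erase pa).image (fun j => vv - xj j) with hS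
    have hcard : (univ.erase pa : Finset GolayPt).card = 23 := by
      rw [card_erase_of_mem (mem_univ _), card_univ, card_golayPt]
    have hScard : S.card = 46 := by
      rw [hS, card_union_of_disjoint, card_image_of_injOn, card_image_of_injOn, hcard]
      · intro i hi j hj hij
        rw [mem_coe, mem_erase] at hi hj
        exact xj_inj hi.1 (sub_right_injective hij)
      · intro i hi j hj hij
        rw [mem_coe, mem_erase] at hi hj
        exact xj_inj hi.1 hij
      · rw [Finset.disjoint_left]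
        intro w hw1 hw2
        rw [mem_image] at hw1 hw2
        obtain ⟨i, hi, rfl⟩ := hw1
        obtain ⟨j, hj, hij⟩ := hw2
        have h1 := congrFun hij pa
        have e1 : vv pa = -3 := by decide
        have e2 : ∀ j, j ≠ pa → xj j pa = -4 := by
          intro j hj
          unfold xj sg
          simp only [Pi.add_apply]
          rw [if_pos trivial, if_neg (Ne.symm hj)]; norm_num
        rw [Pi.sub_apply, e1, e2 i (mem_erase.1 hi).1, e2 j (mem_erase.1 hj).1] at h1
        norm_num at h1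
    set OV : Set Vec := Subtype.val '' (MulAction.orbit F xaL) with hOV
    have hOVc : OV.ncard = 46 := by
      rw [hOV, Set.ncard_image_of_injective _ Subtype.val_injective, hm]
    have hxjO : ∀ j, j ≠ pa → xj j ∈ OV := by
      intro j hj
      obtain ⟨f, hf, -, h⟩ := trans_xj hM (j := pb) (Ne.symm pa_ne_pb) hj
      refine ⟨f • xaL, hinv f _ hf hyaO, ?_⟩
      rw [← app_coe]; exact h
    have hbO : ∀ j, j ≠ pa → vv - xj j ∈ OV := by
      intro j hj
      obtain ⟨f, hf, hv, h⟩ := trans_xj hM (j := pb) (Ne.symm pa_ne_pb) hj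
      refine ⟨f • xbL, hinv f _ hf hybO, ?_⟩
      rw [← app_coe]
      show app f xb = vv - xj j
      rw [xb_eq, app_sub _ vv_mem xa_mem, hv]
      congr 1
    have hSO : (S : Set Vec) = OV := by
      apply Set.eq_of_subset_of_ncard_le
      · intro w hw
        rw [mem_coe, hS, mem_union, mem_image, mem_image] at hw
        rcases hw with ⟨j, hj, rfl⟩ | ⟨j, hj, rfl⟩
        · exact hxjO j (mem_erase.1 hj).1
        · exact hbO j (mem_erase.1 hj).1
      · rw [hOVc, Set.ncard_coe_finset, hScard]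
      · exact Set.finite_of_ncard_ne_zero (by rw [hOVc]; norm_num)
    apply no_frame (y := ⟨y, hyG⟩)
    intro j hj
    have h1 : app y (xj j) ∈ OV := by
      obtain ⟨w, hw, hw2⟩ := hxjO j hj
      refine ⟨y • w, hinv y _ hy hw, ?_⟩
      rw [← app_coe, hw2]
    rw [← hSO, mem_coe, hS, mem_union, mem_image, mem_image] at h1
    rcases h1 with ⟨k, hk, h1⟩ | ⟨k, hk, h1⟩
    · exfalso
      have hk' := (mem_erase.1 hk).1
      have h2 := app_dot y xa_mem (xj_mem hj)
      rw [← h1, hyx, xb_eq, dotInt_sub_left, dot_vv_xj hk'] at h2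
      rcases dot_xa_xj hk' with h3 | h3 <;> rcases dot_xa_xj hj with h4 | h4 <;> omega
    · exact ⟨k, (mem_erase.1 hk).1, h1.symm⟩
  · apply Subgroup.eq_of_le_of_card_ge hF
    rw [hF2, card_GC]

theorem out_GC : Nat.card (Out GC) = 1 := by
  apply OutCrit.card_out_one
  intro α
  obtain ⟨c, hc⟩ := normal_form α
  refine ⟨c, ?_⟩
  set γ : GC →* GC := (MulAut.conj c * α).toMonoidHom with hγ
  have hγa : ∀ x, γ x = c * α x * c⁻¹ := fun x => rfl
  simp only [← hγa] at hc ⊢
  have hinj : Function.Injective γ := (MulAut.conj c * α).injective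
  obtain ⟨y, hy, hyx⟩ := fixed_swap γ hinj hc
  set F' : Subgroup GC := γ.eqLocus (MonoidHom.id GC) with hF'
  have h1 : F'.map GC.subtype = GC := by
    refine gen (y := (y : Co0)) ?_ ?_ ?_ hyx
    · rintro _ ⟨g, _, rfl⟩; exact g.2
    · intro σ; exact ⟨kapG σ, hc σ, rfl⟩
    · exact ⟨y, hy, rfl⟩
  intro x
  have h2 : (x : Co0) ∈ F'.map GC.subtype := by rw [h1]; exact x.2
  obtain ⟨g, hg, h3⟩ := h2
  have h4 : g = x := Subtype.ext h3
  rw [← h4]; exact hg

theorem co2_std : Nonempty (Spor.Co2 ≃* GC) := by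
  have e1 : (MulAction.stabilizer Co0 (Spor.leechU)) ≃* Spor.Co2 :=
    subgroupOfEquivInf Co0 (MulAction.stabilizer _ Spor.leechU)
  obtain ⟨g, hg⟩ := toV0 Spor.leechU.2 (by decide +kernel)
  obtain ⟨h, hh⟩ := toV0 vv_mem norm_vv
  have h1 : (h⁻¹ * g) • Spor.leechU = (⟨vv, vv_mem⟩ : leechLattice) := by
    apply smul_eq_iff_app.2
    rw [app_mul, hg, ← hh, app_inv_app]
  have h2 : GC = (MulAction.stabilizer Co0 (Spor.leechU)).map (MulAut.conj (h⁻¹ * g)).toMonoidHom := by
    have := MulAction.stabilizer_smul_eq_stabilizer_map_conj (h⁻¹ * g) Spor.leechU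
    rw [h1] at this
    exact this
  exact ⟨e1.symm.trans (((MulAction.stabilizer Co0 (Spor.leechU)).equivMapOfInjective _ (MulAut.conj (h⁻¹ * g)).injective).trans
    (MulEquiv.subgroupCongr h2.symm))⟩

end Cfsg.Agent.Lib.Co2Out
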