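import Cfsg.Agent.Lib.Co2Out.Basic

/-!
Normal form of an automorphism.
-/

set_option autoImplicit false

namespace Cfsg.Agent.Lib.Co2Out

open Cfsg Finset
open Cfsg.Agent.Lib.Golay Cfsg.Agent.Lib
open scoped Pointwise

theorem memD : pm cD ∈ m23 := by rw [← closure23]; exact Subgroup.subset_closure (by simp)
theorem memU : pm cU ∈ m23 := ⟨mem_M24_U, (pm_mem_stab (by decide +kernel) (by norm_num)).1 (by decide +kernel)⟩

/-- the element of order 23 -/
noncomputable def T : GC := kapG ⟨pm cT, mem_m23_T⟩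
/-- the element of order 11 -/
noncomputable def U : GC := kapG ⟨pm cU, memU⟩
/-- the element of order 5 -/
noncomputable def D : GC := kapG ⟨pm cD, memD⟩

theorem coe_T : (T : Co0) = tEl := rfl
theorem coe_U : (U : Co0) = uEl := rfl

theorem ord_T : orderOf T = 23 := by
  unfold T
  rw [orderOf_injective kapG kapG_inj, Subgroup.orderOf_mk, orderOf_T]
theorem ord_U : orderOf U = 11 := by
  unfold U
  rw [orderOf_injective kapG kapG_inj, Subgroup.orderOf_mk, orderOf_U]
theorem ord_D : orderOf D = 5 := by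
  unfold D
  rw [orderOf_injective kapG kapG_inj, Subgroup.orderOf_mk, orderOf_D]

theorem rel1 : U * T = T ^ 2 * U := by
  unfold U T
  rw [← map_mul, ← map_pow, ← map_mul]
  congr 1
  exact Subtype.ext rel_UT
theorem rel2 : D * U = U ^ 3 * D := by
  unfold U D
  rw [← map_mul, ← map_pow, ← map_mul]
  congr 1
  exact Subtype.ext rel_DU

theorem pow_fix {g : Co0} {x : Vec} (h : app g x = x) (n : ℕ) : app (g ^ n) x = x := by
  induction n with
  | zero => rw [pow_zero, app_one]
  | succ n ih => rw [pow_succ, app_mul, h, ih]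

theorem tEl_r5 : app tEl vv = vv := by rw [tEl_app vv_mem]; exact rO_fix

theorem r5_ne_neg : -vv ≠ vv := by decide +kernel

theorem cent_TG (g : GC) (h : g * T = T * g) : g ∈ Subgroup.zpowers T := by
  have h1 : (g : Co0) * tEl = tEl * (g : Co0) := congrArg Subtype.val h
  obtain ⟨j, hj | hj⟩ := comm_tEl h1
  · exact ⟨j, by apply Subtype.ext; show ((T ^ (j : ℤ) : GC) : Co0) = g; rw [zpow_natCast]; exact hj.symm⟩
  · exfalso
    have h2 := gc_fix g
    rw [hj, app_mul, pow_fix tEl_r5, negEl_app' vv_mem] at h2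
    exact r5_ne_neg h2

theorem card_GC : Nat.card GC = 42305421312000 := card_stab32 _ norm_vv

theorem finGC : Finite GC := Nat.finite_of_card_ne_zero (by rw [card_GC]; norm_num)

theorem cent_U_xa {g : GC} (h : g * U = U * g) (h2 : app (g : Co0) xa = xa) : ∃ j : ℕ, g = U ^ j := by
  obtain ⟨j, hj⟩ := cent_xa (g := (g : Co0)) (congrArg Subtype.val h) (gc_fix g) h2
  exact ⟨j, Subtype.ext hj⟩

theorem U_xa : app (U : Co0) xa = xa := by rw [coe_U, uEl_app xa_mem, xa_fixU]

theorem U_mod (n : ℕ) : U ^ (n % 11) = U ^ n := by rw [← ord_U]; exact pow_mod_orderOf U n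

theorem inv11 : ∀ r < 11, r ≠ 0 → ∃ m < 11, (r * m) % 11 = 1 := by decide

theorem norm_inv {g : GC} {k : ℕ} (h : g * U = U ^ k * g) : ∃ m : ℕ, U * g = g * U ^ m := by
  have hk : k % 11 ≠ 0 := by
    intro h0
    rw [← U_mod, h0, pow_zero, one_mul] at h
    have h1 : U = 1 := mul_eq_left.1 h
    have := ord_U
    rw [h1, orderOf_one] at this
    norm_num at this
  obtain ⟨m, _, hm⟩ := inv11 (k % 11) (Nat.mod_lt _ (by norm_num)) hk
  refine ⟨m, ?_⟩
  have : (k * m) % 11 = 1 := by
    rw [Nat.mul_mod] at hm ⊢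
    rwa [Nat.mod_mod] at hm
  rw [OutCrit.pow_conj h, ← U_mod (k * m), this, pow_one]

/-- elements normalising the group of order 11 -/
theorem norm_xx {g : GC} {k : ℕ} (h : g * U = U ^ k * g) : app (g : Co0) xa = xa ∨ app (g : Co0) xa = xb := by
  obtain ⟨m, hm⟩ := norm_inv h
  have h1 := om_app g om_xa
  apply fixOm h1.2.1 h1.2.2
  rw [← uEl_app h1.1, ← coe_U, ← app_mul]
  have h2 : (U : Co0) * (g : Co0) = (g : Co0) * (U : Co0) ^ m := congrArg Subtype.val hm
  rw [h2, app_mul, pow_fix U_xa]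

theorem swap_rO {g : GC} (h : app (g : Co0) xa = xb) : app (g : Co0) (xb) = xa := by
  have h1 : app (g : Co0) (xb) = vv - xb := by
    conv_lhs => rw [xb_eq]
    rw [app_sub _ vv_mem xa_mem, gc_fix, h]
  rw [h1, ← xa_add]; abel

theorem xa_ne : xa ≠ xb := by decide +kernel

theorem odd_fix {g : GC} {k : ℕ} (h : g * U = U ^ k * g) {n : ℕ} (hn : g ^ (2 * n + 1) = 1) : app (g : Co0) xa = xa := by
  rcases norm_xx h with h1 | h1
  · exact h1
  · exfalso
    have h2 : app ((g : Co0) * (g : Co0)) xa = xa := by rw [app_mul, h1, swap_rO h1]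
    have h3 : app ((g : Co0) ^ (2 * n + 1)) xa = xb := by
      rw [pow_succ', pow_mul, pow_two, app_mul, pow_fix h2, h1]
    have h4 : (g : Co0) ^ (2 * n + 1) = 1 := congrArg Subtype.val hn
    rw [h4, app_one] at h3
    exact xa_ne h3

theorem rel_excl' {N : Type*} [Group N] {H : Subgroup (Equiv.Perm GolayPt)} (κ : H →* N) (hκ : Function.Injective κ)
    (β : N →* N) (g0 g1 : ℕ → H) {n : ℕ} {o o' : ℕ → ℕ}
    (h0 : ∀ k < n, valid (o k) = true ∧ pm (o k) = (g0 k : Equiv.Perm GolayPt))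
    (h1 : ∀ k < n, valid (o' k) = true ∧ pm (o' k) = (g1 k : Equiv.Perm GolayPt))
    (hb : ∀ k < n, β (κ (g0 k)) = κ (g1 k))
    {w : List ℕ} (hw : ∀ k ∈ w, k < n) (ht : evc w o = idc) : moves (evc w o') = false := by
  by_contra hc
  rw [Bool.not_eq_false] at hc
  obtain ⟨h2, h3⟩ := evc_spec (c := o') w (fun i hi => (h1 i (hw i hi)).1)
  obtain ⟨h4, h5⟩ := evc_spec (c := o) w (fun i hi => (h0 i (hw i hi)).1)
  apply ne_one_of_moves h2 hc
  have e1 : OutCrit.ev w (fun i => pm (o i)) = OutCrit.ev w (fun i => H.subtype (g0 i)) := by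
    unfold OutCrit.ev
    congr 1
    exact List.map_congr_left (fun i hi => (h0 i (hw i hi)).2)
  have e2 : OutCrit.ev w (fun i => pm (o' i)) = OutCrit.ev w (fun i => H.subtype (g1 i)) := by
    unfold OutCrit.ev
    congr 1
    exact List.map_congr_left (fun i hi => (h1 i (hw i hi)).2)
  rw [ht, pm_idc, e1, ← OutCrit.map_ev] at h5
  have h6 : OutCrit.ev w g0 = 1 := Subtype.ext h5.symm
  have e3 : OutCrit.ev w (fun i => κ (g1 i)) = OutCrit.ev w (fun i => β (κ (g0 i))) := by
    unfold OutCrit.ev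
    congr 1
    exact List.map_congr_left (fun i hi => (hb i (hw i hi)).symm)
  have h7 : κ (OutCrit.ev w g1) = 1 := by
    rw [OutCrit.map_ev κ, e3, ← OutCrit.map_ev β (g := fun i => κ (g0 i)), ← OutCrit.map_ev κ, h6, map_one, map_one]
  have h8 : OutCrit.ev w g1 = 1 := hκ (by rw [h7, map_one])
  rw [h3, e2, ← OutCrit.map_ev H.subtype, h8, map_one]

/-- up to inner automorphisms, an automorphism is trivial on the stabiliser of a point -/
theorem normal_form (α : MulAut GC) : ∃ c : GC, ∀ σ : m23, c * α (kapG σ) * c⁻¹ = kapG σ := by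
  haveI := finGC
  obtain ⟨c, hcT, hcU⟩ := OutCrit.normalise (p := 23) (by norm_num) (u := T) (d := U) (m := 2)
    ord_T cent_TG (by rw [card_GC]; norm_num) rel1 gen23 shift23 α
  refine ⟨c, ?_⟩
  set β : GC →* GC := (MulAut.conj c * α).toMonoidHom with hβ
  have hβa : ∀ x, β x = c * α x * c⁻¹ := fun x => rfl
  simp only [← hβa] at hcT hcU ⊢
  have hDU' : β D * U = U ^ 3 * β D := by
    have := congrArg β rel2
    rwa [map_mul, map_mul, map_pow, hcU] at this
  have hD5 : (β D) ^ (2 * 2 + 1) = 1 := by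
    rw [← map_pow]
    have h1 : D ^ (2 * 2 + 1) = 1 := by
      have := pow_orderOf_eq_one D
      rwa [ord_D] at this
    rw [h1, map_one]
  have hD5' : D ^ (2 * 2 + 1) = 1 := by
    have := pow_orderOf_eq_one D
    rwa [ord_D] at this
  have hfx := odd_fix hDU' hD5
  have hfx' := odd_fix rel2 hD5'
  have hcomm : (D⁻¹ * β D) * U = U * (D⁻¹ * β D) := by
    calc (D⁻¹ * β D) * U = D⁻¹ * (U ^ 3 * β D) := by rw [mul_assoc, hDU']
      _ = D⁻¹ * (U ^ 3 * D) * (D⁻¹ * β D) := by group
      _ = D⁻¹ * (D * U) * (D⁻¹ * β D) := by rw [rel2]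
      _ = U * (D⁻¹ * β D) := by group
  obtain ⟨i, hi⟩ := cent_U_xa hcomm (by
    show app ((D : Co0)⁻¹ * (β D : Co0)) xa = xa
    rw [app_mul, hfx, ← app_eq_iff]; exact hfx')
  have hjD : ∃ j < 11, β D = U ^ j * D := by
    refine ⟨(3 * i) % 11, Nat.mod_lt _ (by norm_num), ?_⟩
    rw [U_mod, ← OutCrit.pow_conj rel2, ← hi]; group
  obtain ⟨j, hj, hjD⟩ := hjD
  have he : ∃ e < 2, β T = kapG (if e = 0 then ⟨pm cT, mem_m23_T⟩ else (⟨pm cT, mem_m23_T⟩ : m23)⁻¹) := by
    rcases hcT with h | h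
    · exact ⟨0, by norm_num, by rw [if_pos rfl, h]; rfl⟩
    · exact ⟨1, by norm_num, by rw [if_neg (by norm_num), h, map_inv]; rfl⟩
  obtain ⟨e, he, heT⟩ := he
  set T' : m23 := ⟨pm cT, mem_m23_T⟩ with hT'
  set D' : m23 := ⟨pm cD, memD⟩ with hD'
  set U' : m23 := ⟨pm cU, memU⟩ with hU'
  have ha := rel_excl' (n := 2) kapG kapG_inj β (fun k => if k = 0 then T' else D')
    (fun k => if k = 0 then (if e = 0 then T' else T'⁻¹) else U' ^ j * D') (o := opt23 0 0) (o' := opt23 e j)
    (by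
      intro k hk
      refine ⟨opt23_valid 0 (by norm_num) 0 (by norm_num) k hk, ?_⟩
      have hu0 := (pm_pwU (j := 0) (by norm_num))
      rw [pow_zero] at hu0
      interval_cases k
      · exact congrArg pm pwT_one
      · change pm (comp (pwU 0) cD) = pm cD
        rw [pm_comp hu0.1 (pres_valid cD_pres), hu0.2, one_mul])
    (by
      intro k hk
      refine ⟨opt23_valid e he j hj k hk, ?_⟩
      interval_cases k
      · interval_cases e
        · exact congrArg pm pwT_one
        · exact pm_pwT22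
      · change pm (comp (pwU j) cD) = pm cU ^ j * pm cD
        rw [pm_comp (pm_pwU hj).1 (pres_valid cD_pres), (pm_pwU hj).2])
    (by
      intro k hk
      interval_cases k
      · exact heT
      · show β D = kapG (U' ^ j * D')
        rw [map_mul, map_pow]; exact hjD)
    (w := w23) (by decide) w23_triv
  have hc := chk23 e he j hj
  rw [ha] at hc
  simp only [Bool.or_false, Bool.and_eq_true, beq_iff_eq] at hc
  obtain ⟨rfl, rfl⟩ := hc
  rw [if_pos rfl] at heT
  rw [pow_zero, one_mul] at hjD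
  have hfin := hom_eq_of_closure closure23 (β.comp kapG) kapG (by
    rintro x hx (rfl | rfl)
    · exact heT
    · exact hjD)
  exact hfin

end Cfsg.Agent.Lib.Co2Out
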