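import Cfsg.Agent.Lib.Co2Out.Norm

/-!
An element outside the stabiliser of a coordinate fixed by a normalised automorphism.
-/

set_option autoImplicit false

namespace Cfsg.Agent.Lib.Co2Out

open Cfsg Finset
open Cfsg.Agent.Lib.Golay Cfsg.Agent.Lib
open scoped Pointwise

theorem norm_xa : sqNorm xa = 32 := by decide +kernel
theorem norm_xb : sqNorm xb = 32 := by decide +kernel

theorem exists_g0 : ∃ g : Co0, app g xa = xb ∧ app g vv = vv := by
  obtain ⟨g, hg⟩ := (T16 xa_mem (neg_mem vv_mem) norm_xa (by decide +kernel) (by decide +kernel)).trans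
    (T16 xb_mem (neg_mem vv_mem) norm_xb (by decide +kernel) (by decide +kernel)).symm
  simp only [List.map_cons, List.map_nil, List.cons.injEq, and_true] at hg
  refine ⟨g, hg.1, ?_⟩
  have h := hg.2
  rw [app_neg g vv_mem, neg_inj] at h
  exact h

theorem ord_uEl : orderOf uEl = 11 := by
  have h := ord_U
  rw [← coe_U, Subgroup.orderOf_coe]; exact h

theorem exists_swap : ∃ (y : GC) (k : ℕ), y * U = U ^ k * y ∧ app (y : Co0) xa = xb := by
  haveI := finCo0
  obtain ⟨g, g1, g2⟩ := exists_g0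
  have g3 : app g (xb) = xa := swap_rO (g := ⟨g, mem_gc g2⟩) g1
  set L : Subgroup Co0 := MulAction.stabilizer Co0 (⟨xa, xa_mem⟩ : leechLattice) ⊓
    MulAction.stabilizer Co0 (⟨xb, xb_mem⟩ : leechLattice) with hL
  have hc : Nat.card L ∣ 8315553613086720000 := by rw [← card_Co0]; exact Subgroup.card_subgroup_dvd_card L
  have hU1 : app uEl xa = xa := U_xa
  have hU2 : app uEl (xb) = xb := by rw [uEl_app xb_mem, xb_fixU]
  have hUm : uEl ∈ L := ⟨smul_eq_iff_app.2 hU1, smul_eq_iff_app.2 hU2⟩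
  have hV1 : app (g * uEl * g⁻¹) xa = xa := by
    rw [app_mul, app_mul]
    have : app g⁻¹ xa = xb := by rw [← app_eq_iff]; exact g3
    rw [this, hU2, g3]
  have hV2 : app (g * uEl * g⁻¹) (xb) = xb := by
    rw [app_mul, app_mul]
    have : app g⁻¹ (xb) = xa := by rw [← app_eq_iff]; exact g1
    rw [this, hU1, g1]
  have hVm : g * uEl * g⁻¹ ∈ L := ⟨smul_eq_iff_app.2 hV1, smul_eq_iff_app.2 hV2⟩
  obtain ⟨c, k, hck⟩ := OutCrit.exists_conj_pow (p := 11) (by norm_num) (u := (⟨uEl, hUm⟩ : L)) (v := (⟨g * uEl * g⁻¹, hVm⟩ : L))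
    (by rw [Subgroup.orderOf_mk, ord_uEl]) (by
      rw [Subgroup.orderOf_mk]
      have : g * uEl * g⁻¹ = MulAut.conj g uEl := rfl
      rw [this]
      exact (MulEquiv.orderOf_eq (MulAut.conj g) uEl).trans ord_uEl)
    (fun h => absurd (h.trans hc) (by norm_num))
  have hck' : (c : Co0) * (g * uEl * g⁻¹) * (c : Co0)⁻¹ = uEl ^ k := congrArg Subtype.val hck
  have c1 : app (c : Co0) xa = xa := smul_eq_iff_app.1 c.2.1
  have c2 : app (c : Co0) (xb) = xb := smul_eq_iff_app.1 c.2.2
  have c3 : app (c : Co0) (vv) = vv := by rw [← xa_add, app_add _ xa_mem xb_mem, c1, c2]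
  refine ⟨⟨(c : Co0) * g, mem_gc (by rw [app_mul, g2, c3])⟩, k, ?_, ?_⟩
  · apply Subtype.ext
    show (c : Co0) * g * uEl = uEl ^ k * ((c : Co0) * g)
    rw [← hck']; group
  · show app ((c : Co0) * g) xa = xb
    rw [app_mul, g1, c2]

theorem U_eq_one {n : ℕ} (h : U ^ (2 * n) = 1) : U ^ n = 1 := by
  have h1 : 11 ∣ 2 * n := by rw [← ord_U]; exact orderOf_dvd_of_pow_eq_one h
  have h2 : 11 ∣ n := (Nat.Coprime.dvd_mul_left (by norm_num)).1 h1
  obtain ⟨m, rfl⟩ := h2
  rw [pow_mul]
  have := pow_orderOf_eq_one U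
  rw [ord_U] at this
  rw [this, one_pow]

theorem fixed_swap (γ : GC →* GC) (hinj : Function.Injective γ) (hγ : ∀ σ : m23, γ (kapG σ) = kapG σ) :
    ∃ y : GC, γ y = y ∧ app (y : Co0) xa = xb := by
  have gU : γ U = U := hγ _
  have gD : γ D = D := hγ _
  by_cases hex : ∃ e : GC, e * U = U * e ∧ app (e : Co0) xa = xb
  · obtain ⟨e, he, hex0⟩ := hex
    have hee : Commute e U := he
    obtain ⟨i, hi⟩ := cent_U_xa (g := e * e) ((hee.mul_left hee).eq) (by
      show app ((e : Co0) * (e : Co0)) xa = xa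
      rw [app_mul, hex0, swap_rO hex0])
    set t := e ^ 11 with ht
    have htU : Commute t U := hee.pow_left 11
    have htt : t * t = 1 := by
      have h1 : t * t = (e * e) ^ 11 := by rw [ht, ← pow_two, ← pow_two, ← pow_mul, ← pow_mul]
      rw [h1, hi, ← pow_mul, mul_comm, pow_mul]
      have := pow_orderOf_eq_one U
      rw [ord_U] at this
      rw [this, one_pow]
    have htx : app (t : Co0) xa = xb := by
      have h2 : app ((e : Co0) * (e : Co0)) xa = xa := by rw [app_mul, hex0, swap_rO hex0]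
      show app ((e : Co0) ^ 11) xa = xb
      have : (e : Co0) ^ 11 = (e : Co0) * ((e : Co0) * (e : Co0)) ^ 5 := by
        rw [← pow_two, ← pow_mul, ← pow_succ']
      rw [this, app_mul, pow_fix h2, hex0]
    refine ⟨t, ?_, htx⟩
    have hgU : Commute (γ t) U := by
      have h3 := congrArg γ htU.eq
      rw [map_mul, map_mul, gU] at h3
      exact h3
    have hgg : γ t * γ t = 1 := by rw [← map_mul, htt, map_one]
    rcases norm_xx (g := γ t) (k := 1) (by rw [pow_one]; exact hgU.eq) with h4 | h4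
    · exfalso
      obtain ⟨l, hl⟩ := cent_U_xa hgU.eq h4
      rw [hl, ← pow_add, ← two_mul] at hgg
      have h5 := U_eq_one hgg
      rw [h5] at hl
      have h6 : t = 1 := hinj (by rw [hl, map_one])
      rw [h6] at htx
      have : app (1 : Co0) xa = xb := htx
      rw [app_one] at this
      exact xa_ne this
    · obtain ⟨l, hl⟩ := cent_U_xa (g := t * γ t) ((htU.mul_left hgU).eq) (by
        show app ((t : Co0) * ((γ t : GC) : Co0)) xa = xa
        rw [app_mul, h4, swap_rO htx])
      have h5 : γ t = t * U ^ l := by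
        rw [← hl, ← mul_assoc, htt, one_mul]
      have h6 : U ^ (2 * l) = 1 := by
        have hc : Commute t (U ^ l) := htU.pow_right l
        calc U ^ (2 * l) = U ^ l * U ^ l := by rw [two_mul, pow_add]
          _ = (t * t) * (U ^ l * U ^ l) := by rw [htt, one_mul]
          _ = t * (t * U ^ l) * U ^ l := by simp only [mul_assoc]
          _ = t * (U ^ l * t) * U ^ l := by rw [hc.eq]
          _ = (t * U ^ l) * (t * U ^ l) := by simp only [mul_assoc]
          _ = 1 := by rw [← h5, hgg]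
      rw [h5, U_eq_one h6, mul_one]
  · have hC : ∀ e : GC, e * U = U * e → ∃ j : ℕ, e = U ^ j := by
      intro e he
      rcases norm_xx (g := e) (k := 1) (by rw [pow_one]; exact he) with h | h
      · exact cent_U_xa he h
      · exact absurd ⟨e, he, h⟩ hex
    obtain ⟨y, k, hyU, hyx⟩ := exists_swap
    have hcm : ∀ (a b : GC) (m : ℕ), a * U = U ^ m * a → b * U = U ^ m * b → ∃ j : ℕ, b = a * U ^ j := by
      intro a b m ha hb
      obtain ⟨j, hj⟩ := hC (a⁻¹ * b) (by
        calc (a⁻¹ * b) * U = a⁻¹ * (U ^ m * b) := by rw [mul_assoc, hb]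
          _ = a⁻¹ * (U ^ m * a) * (a⁻¹ * b) := by group
          _ = a⁻¹ * (a * U) * (a⁻¹ * b) := by rw [ha]
          _ = U * (a⁻¹ * b) := by group)
      exact ⟨j, by rw [← hj]; group⟩
    -- y D and D y
    have h1 : (y * D) * U = U ^ (k * 3) * (y * D) := by
      rw [mul_assoc, rel2, ← mul_assoc, OutCrit.pow_conj hyU, mul_assoc]
    have h2 : (D * y) * U = U ^ (k * 3) * (D * y) := by
      rw [mul_assoc, hyU, ← mul_assoc, OutCrit.pow_conj rel2, mul_assoc, mul_comm 3 k]
    obtain ⟨j, hj⟩ := hcm _ _ _ h2 h1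
    -- y D = D y U^j = D U^(k j) y = U^(3 k j) D y
    obtain ⟨i, hi⟩ : ∃ i, i = k * j := ⟨_, rfl⟩
    have h3 : y * D = U ^ (3 * i) * (D * y) := by
      rw [hj, mul_assoc, OutCrit.pow_conj hyU, ← mul_assoc, OutCrit.pow_conj rel2, mul_assoc, hi]
    obtain ⟨z, hz⟩ : ∃ z, z = U ^ (7 * i) * y := ⟨_, rfl⟩
    have hzU : z * U = U ^ k * z := by
      calc z * U = U ^ (7 * i) * (y * U) := by rw [hz, mul_assoc]
        _ = U ^ (7 * i) * (U ^ k * y) := by rw [hyU]
        _ = U ^ (7 * i + k) * y := by rw [pow_add, mul_assoc]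
        _ = U ^ (k + 7 * i) * y := by rw [add_comm]
        _ = U ^ k * z := by rw [hz, pow_add, mul_assoc]
    have hzD : z * D = D * z := by
      have e1 : z * D = U ^ (10 * i) * (D * y) := by
        rw [hz, mul_assoc, h3, ← mul_assoc, ← pow_add]; congr 2; ring
      have e2 : D * z = U ^ (21 * i) * (D * y) := by
        rw [hz, ← mul_assoc, OutCrit.pow_conj rel2, mul_assoc]; congr 2; ring
      have e3 : U ^ (21 * i) = U ^ (10 * i) := by
        rw [← U_mod, ← U_mod (10 * i)]; congr 1; omega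
      rw [e1, e2, e3]
    have hUr : app (U : Co0) (xb) = xb := by
      rw [coe_U, uEl_app xb_mem, xb_fixU]
    have hzx : app (z : Co0) xa = xb := by
      rw [hz]
      show app ((U : Co0) ^ (7 * i) * (y : Co0)) xa = xb
      rw [app_mul, hyx, pow_fix hUr]
    refine ⟨z, ?_, hzx⟩
    have hgz : γ z * U = U ^ k * γ z := by
      have := congrArg γ hzU
      rwa [map_mul, map_mul, map_pow, gU] at this
    have hgD : γ z * D = D * γ z := by
      have := congrArg γ hzD
      rwa [map_mul, map_mul, gD] at this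
    obtain ⟨l, hl⟩ := hcm _ _ _ hzU hgz
    have h5 : U ^ (2 * l) = 1 := by
      rw [hl] at hgD
      have e1 : U ^ l * D = D * U ^ l := by
        have : z * (U ^ l * D) = z * (D * U ^ l) := by
          rw [← mul_assoc, hgD, ← mul_assoc, ← mul_assoc, hzD]
        exact mul_left_cancel this
      rw [OutCrit.pow_conj rel2] at e1
      have e2 := mul_right_cancel e1
      have e3 : U ^ l * U ^ (2 * l) = U ^ l * 1 := by
        rw [← pow_add, mul_one, e2]; congr 1; ring
      exact mul_left_cancel e3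
    rw [hl, U_eq_one h5, mul_one]

end Cfsg.Agent.Lib.Co2Out
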